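import Cfsg.Agent.H521.BMSevenHe
import Cfsg.Agent.H829.Pw.BSeven
import Cfsg.Agent.H844.Ore.BThirteen

/-!
# S3509, row B: the elements of order 7 of the Baby Monster (helper472)

* `he_four` : in the Held group `C(a)` preserves a four-group `{1, a, v, v a}` with all involutions of class 2A;
* `lift_four` : the same in a group `M` with `C_M(x) / ⟨x⟩ ≅ He`;
* `mon_four` : the Monster, `x` of order 7 commuting with a 2A-involution `t`;
* **`seven_central`** : `s` of order 7 in the Baby Monster: a transposition commutes with all of `C(s)`.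
-/

set_option autoImplicit false
set_option maxRecDepth 100000
set_option linter.unusedSectionVars false

namespace Cfsg.Agent.H472.RB

open Cfsg
open Subgroup (centralizer zpowers mem_centralizer_singleton_iff center mem_zpowers_iff)

section he

open Cfsg.Spor.He Cfsg.Agent.KFacts.He.Lv Cfsg.Agent.KFacts.He.TwoACent

theorem conj_a_of_mem_V {y : Cfsg.Spor.He} (hy : y ∈ V) (h1 : y ≠ 1) :
    IsConj (gn .a : Cfsg.Spor.He) y := by
  have hyy : y * y = 1 := CTwoTab.He.sq_V hy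
  rcases CTwoTab.He.classes hyy h1 with h | h
  · exfalso
    have hfin := Cfsg.Agent.KFacts.He.Hyp.finHe
    have h2 : Nat.card ↥(centralizer ({y} : Set Cfsg.Spor.He)) = 21504 := by
      have h5 : Nat.card ↥(Subgroup.centralizer ({CTwoTab.He.z} : Set Spor.He)) = 21504 := KFacts.He.Cent.card_cent
      rw [H829.Pw.card_cent_of_isConj h, h5]
    have h3 : L ≤ centralizer ({y} : Set Cfsg.Spor.He) := fun l hl =>
      mem_centralizer_singleton_iff.2 (mem_V.1 hy l hl)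
    have h4 := Subgroup.card_le_of_le h3
    rw [h2, CTwoTab.He.card_L] at h4
    norm_num at h4
  · exact h

/-- **the four-group** -/
theorem he_four : ∃ v : Cfsg.Spor.He, v * v = 1 ∧ v ≠ 1 ∧ v ≠ gn .a ∧ v * gn .a = gn .a * v ∧
    IsConj (gn .a : Cfsg.Spor.He) v ∧ IsConj (gn .a : Cfsg.Spor.He) (v * gn .a) ∧
    ∀ c : Cfsg.Spor.He, c * gn .a = gn .a * c → c * v * c⁻¹ = v ∨ c * v * c⁻¹ = v * gn .a := by
  have hva : v * gn .a ≠ 1 := by
    intro h
    apply v_ne_a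
    have h1 := eq_inv_of_mul_eq_one_left h
    rwa [gn_inv] at h1
  refine ⟨v, v_mul_self, v_ne_one, v_ne_a, L_comm_a v_mem_L, conj_a_of_mem_V v_mem_V v_ne_one,
    conj_a_of_mem_V va_mem_V hva, fun c hc => ?_⟩
  have hV : c * v * c⁻¹ ∈ V := by
    rw [mem_V]
    intro l hl
    have hci : c⁻¹ * gn .a = gn .a * c⁻¹ := (show Commute c (gn .a) from hc).inv_left
    have h1 := norm hci hl
    rw [inv_inv] at h1
    have h2 := L_comm_v h1
    calc l * (c * v * c⁻¹) = c * (c⁻¹ * l * c * v) * c⁻¹ := by group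
      _ = c * (v * (c⁻¹ * l * c)) * c⁻¹ := by rw [h2]
      _ = c * v * c⁻¹ * l := by group
  rcases V_eq hV with h | h | h | h
  · exfalso
    rw [conj_eq_one_iff] at h
    exact v_ne_one h
  · exfalso
    apply v_ne_a
    calc v = c⁻¹ * (c * v * c⁻¹) * c := by group
      _ = c⁻¹ * (gn .a * c) := by rw [h, mul_assoc]
      _ = gn .a := by rw [← hc, inv_mul_cancel_left]
  · exact Or.inl h
  · exact Or.inr h

end he

section lift

variable {M H : Type*} [Group M] [Group H]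

/-- the data: `w` for the involution `τ` -/
structure Four (τ w : H) : Prop where
  sq : w * w = 1
  ne1 : w ≠ 1
  ne : w ≠ τ
  comm : w * τ = τ * w
  c1 : IsConj τ w
  c2 : IsConj τ (w * τ)
  pr : ∀ c : H, c * τ = τ * c → c * w * c⁻¹ = w ∨ c * w * c⁻¹ = w * τ

theorem Four.conj {τ w : H} (h : Four τ w) (g : H) : Four (g * τ * g⁻¹) (g * w * g⁻¹) where
  sq := by
    calc g * w * g⁻¹ * (g * w * g⁻¹) = g * (w * w) * g⁻¹ := by group
      _ = 1 := by rw [h.sq]; group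
  ne1 := fun h1 => h.ne1 (conj_eq_one_iff.1 h1)
  ne := fun h1 => h.ne ((MulAut.conj g).injective h1)
  comm := by
    calc g * w * g⁻¹ * (g * τ * g⁻¹) = g * (w * τ) * g⁻¹ := by group
      _ = g * (τ * w) * g⁻¹ := by rw [h.comm]
      _ = _ := by group
  c1 := by
    refine (isConj_iff.2 ⟨g⁻¹, ?_⟩ : IsConj (g * τ * g⁻¹) τ).trans (h.c1.trans (isConj_iff.2 ⟨g, rfl⟩))
    group
  c2 := by
    refine (isConj_iff.2 ⟨g⁻¹, ?_⟩ : IsConj (g * τ * g⁻¹) τ).trans (h.c2.trans (isConj_iff.2 ⟨g, ?_⟩))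
    · group
    · group
  pr := by
    intro c hc
    have h1 : g⁻¹ * c * g * τ = τ * (g⁻¹ * c * g) := by
      calc g⁻¹ * c * g * τ = g⁻¹ * (c * (g * τ * g⁻¹)) * g := by group
        _ = g⁻¹ * (g * τ * g⁻¹ * c) * g := by rw [hc]
        _ = _ := by group
    rcases h.pr _ h1 with h2 | h2
    · left
      calc c * (g * w * g⁻¹) * c⁻¹ = g * (g⁻¹ * c * g * w * (g⁻¹ * c * g)⁻¹) * g⁻¹ := by group
        _ = g * w * g⁻¹ := by rw [h2]
    · right
      calc c * (g * w * g⁻¹) * c⁻¹ = g * (g⁻¹ * c * g * w * (g⁻¹ * c * g)⁻¹) * g⁻¹ := by group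
        _ = g * (w * τ) * g⁻¹ := by rw [h2]
        _ = _ := by group

/-- **lifting** -/
theorem lift_four {x t : M} (hx : Odd (orderOf x)) (htt : t * t = 1) (hxt : x * t = t * x)
    (ψ : ↥(centralizer ({x} : Set M)) →* H) (hψ : Function.Surjective ψ)
    (hk : ∀ c : ↥(centralizer ({x} : Set M)), ψ c = 1 → (c : M) ∈ zpowers x) {w : H}
    (h : Four (ψ ⟨t, mem_centralizer_singleton_iff.2 hxt.symm⟩) w) :
    ∃ t₁ : M, t₁ * x = x * t₁ ∧ t₁ * t₁ = 1 ∧ t₁ ≠ 1 ∧ t₁ ≠ t ∧ t₁ * t = t * t₁ ∧ IsConj t t₁ ∧ IsConj t (t₁ * t) ∧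
      ∀ c : M, c * x = x * c → c * t = t * c → c * t₁ * c⁻¹ = t₁ ∨ c * t₁ * c⁻¹ = t₁ * t := by
  -- involutions with the same image are equal
  have key : ∀ a b : ↥(centralizer ({x} : Set M)), a * a = 1 → b * b = 1 → ψ a = ψ b → a = b := by
    intro a b ha hb hab
    have h1 := hk (a * b⁻¹) (by rw [map_mul, map_inv, hab, mul_inv_cancel])
    obtain ⟨i, hi⟩ := mem_zpowers_iff.1 h1
    have hbi : b⁻¹ = b := inv_eq_of_mul_eq_one_left hb
    have hi' : x ^ i = (a : M) * (b : M) := by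
      rw [hi, hbi]
      rfl
    have hax : Commute (a : M) (x ^ i) :=
      (show Commute (a : M) x from mem_centralizer_singleton_iff.1 a.2).zpow_right i
    have haa : (a : M) * a = 1 := congrArg Subtype.val ha
    have hbb : (b : M) * b = 1 := congrArg Subtype.val hb
    have e1 : (b : M) = a * x ^ i := by rw [hi', ← mul_assoc, haa, one_mul]
    have e2 : x ^ i * x ^ i = 1 := by
      calc x ^ i * x ^ i = ((a : M) * a) * (x ^ i * x ^ i) := by rw [haa, one_mul]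
        _ = (a : M) * (a * x ^ i) * x ^ i := by group
        _ = (a : M) * (x ^ i * a) * x ^ i := by rw [hax.eq]
        _ = (a * x ^ i) * (a * x ^ i) := by group
        _ = 1 := by rw [← e1, hbb]
    have e3 : x ^ i = 1 := by
      have h2 : (x ^ i) ^ orderOf x = 1 := by
        rw [← zpow_natCast, ← zpow_mul, mul_comm, zpow_mul, zpow_natCast, pow_orderOf_eq_one, one_zpow]
      obtain ⟨m, hm⟩ := hx
      rwa [hm, pow_succ, pow_mul, pow_two, e2, one_pow, one_mul] at h2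
    rw [e3, mul_one] at e1
    exact Subtype.ext e1.symm
  set t' : ↥(centralizer ({x} : Set M)) := ⟨t, mem_centralizer_singleton_iff.2 hxt.symm⟩ with ht'
  have htt' : t' * t' = 1 := Subtype.ext htt
  have hsq : ∀ g : ↥(centralizer ({x} : Set M)), g * t' * g⁻¹ * (g * t' * g⁻¹) = 1 := by
    intro g
    calc g * t' * g⁻¹ * (g * t' * g⁻¹) = g * (t' * t') * g⁻¹ := by group
      _ = 1 := by rw [htt']; group
  obtain ⟨g, hg⟩ := isConj_iff.1 h.c1
  obtain ⟨g, rfl⟩ := hψ g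
  rw [← map_mul, ← map_inv, ← map_mul] at hg
  obtain ⟨t₁, ht₁⟩ : ∃ t₁, t₁ = g * t' * g⁻¹ := ⟨_, rfl⟩
  rw [← ht₁] at hg
  have h11 : t₁ * t₁ = 1 := by rw [ht₁]; exact hsq g
  -- `t₁ t = t t₁`
  have hcm : t₁ * t' = t' * t₁ := by
    have h1 : t₁ * t' * t₁⁻¹ = t' := by
      refine key _ _ ?_ htt' ?_
      · calc t₁ * t' * t₁⁻¹ * (t₁ * t' * t₁⁻¹) = t₁ * (t' * t') * t₁⁻¹ := by group
          _ = 1 := by rw [htt']; group
      · rw [map_mul, map_mul, map_inv, hg, h.comm, mul_inv_cancel_right]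
    exact mul_inv_eq_iff_eq_mul.1 h1
  have h12 : t₁ * t' * (t₁ * t') = 1 := by
    calc t₁ * t' * (t₁ * t') = t₁ * (t' * t₁) * t' := by group
      _ = t₁ * (t₁ * t') * t' := by rw [hcm]
      _ = (t₁ * t₁) * (t' * t') := by group
      _ = 1 := by rw [h11, htt', one_mul]
  refine ⟨(t₁ : M), mem_centralizer_singleton_iff.1 t₁.2, congrArg Subtype.val h11, fun h1 => ?_, fun h1 => ?_,
    congrArg Subtype.val hcm, isConj_iff.2 ⟨(g : M), by rw [ht₁]; rfl⟩, ?_, fun c hcx hct => ?_⟩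
  · apply h.ne1
    rw [← hg, show t₁ = 1 from Subtype.ext h1, map_one]
  · apply h.ne
    rw [← hg, show t₁ = t' from Subtype.ext h1]
  · obtain ⟨k, hk'⟩ := isConj_iff.1 h.c2
    obtain ⟨k, rfl⟩ := hψ k
    rw [← map_mul, ← map_inv, ← map_mul, ← hg, ← map_mul] at hk'
    exact isConj_iff.2 ⟨(k : M), congrArg Subtype.val (key _ _ (hsq k) h12 hk')⟩
  · set c' : ↥(centralizer ({x} : Set M)) := ⟨c, mem_centralizer_singleton_iff.2 hcx⟩ with hc'
    have h1 : ψ c' * ψ t' = ψ t' * ψ c' := by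
      rw [← map_mul, ← map_mul]
      congr 1
      exact Subtype.ext hct
    have h2 : c' * t₁ * c'⁻¹ * (c' * t₁ * c'⁻¹) = 1 := by
      calc c' * t₁ * c'⁻¹ * (c' * t₁ * c'⁻¹) = c' * (t₁ * t₁) * c'⁻¹ := by group
        _ = 1 := by rw [h11]; group
    rcases h.pr _ h1 with h3 | h3
    · left
      rw [← hg, ← map_mul, ← map_inv, ← map_mul] at h3
      exact congrArg Subtype.val (key _ _ h2 h11 h3)
    · right
      rw [← hg, ← map_mul, ← map_inv, ← map_mul, ← map_mul] at h3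
      exact congrArg Subtype.val (key _ _ h2 h12 h3)

end lift

section mon

open Cfsg.Agent.BpTab Cfsg.Agent.CpAutBFive Cfsg.Agent.MFive
open Cfsg.Agent.LThreeMB (fr Zx XX KChart.Cent KChart.pi KChart.chart)
open Cfsg.Agent.MonsterU Cfsg.Agent.MonsterU.Ch
open Cfsg.Agent.MonsterX Cfsg.Agent.MonsterX.MainBasic Cfsg.Agent.MonsterN Cfsg.Agent.MonsterP
open Cfsg.Agent.MonsterU.Lam2 (L2)
open Cfsg.Spor (Co1)
open Cfsg.Agent.H521.BMSevenHe

/-- **The Monster.** -/
theorem mon_four {v y : ↥InstData.M.G} (hv : IsConj BpSpor.BCover.t v) (hy : orderOf y = 7) (hyv : y * v = v * y) :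
    ∃ t₁ : ↥InstData.M.G, t₁ * y = y * t₁ ∧ t₁ * t₁ = 1 ∧ t₁ ≠ 1 ∧ t₁ ≠ v ∧ t₁ * v = v * t₁ ∧ IsConj v t₁ ∧
      IsConj v (t₁ * v) ∧ ∀ c : ↥InstData.M.G, c * y = y * c → c * v = v * c →
        c * t₁ * c⁻¹ = t₁ ∨ c * t₁ * c⁻¹ = t₁ * v := by
  have := MFive.Row.finite_model
  have h := KChart.chart KDone.lft MFive.Row.hc
  have hp : Nat.Prime 7 := by norm_num
  have ht := CpAutBFive.RowB.orderOf_t hv
  have hnt := CpAutBFive.RowB.not_conj hv
  have he : 2 ∣ Nat.card ↥(centralizer ({y} : Set ↥InstData.M.G)) := by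
    have h1 : orderOf (⟨v, mem_centralizer_singleton_iff.2 hyv.symm⟩ : ↥(centralizer ({y} : Set ↥InstData.M.G))) = 2 := by
      rw [← Subgroup.orderOf_coe]
      exact ht
    rw [← h1]
    exact orderOf_dvd_natCard _
  obtain ⟨g, hg⟩ := MSevenT.hex7 y hy he
  have h1 : (g⁻¹ * y * g) * KDone.K.z = KDone.K.z * (g⁻¹ * y * g) := by
    calc (g⁻¹ * y * g) * KDone.K.z = g⁻¹ * (y * (g * KDone.K.z * g⁻¹)) * g := by group
      _ = g⁻¹ * ((g * KDone.K.z * g⁻¹) * y) * g := by rw [hg]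
      _ = KDone.K.z * (g⁻¹ * y * g) := by group
  obtain ⟨x', hx'⟩ : ∃ x' : centralizer ({KDone.K.z} : Set ↥InstData.M.G), (x' : ↥InstData.M.G) = g⁻¹ * y * g :=
    ⟨⟨g⁻¹ * y * g, mem_centralizer_singleton_iff.2 h1⟩, rfl⟩
  have h7 : orderOf (g⁻¹ * y * g) = 7 := by
    have h6 := MulEquiv.orderOf_eq (MulAut.conj g⁻¹) y
    rw [MulAut.conj_apply, inv_inv] at h6
    rw [h6, hy]
  have hx7 : orderOf x' = 7 := by rw [← Subgroup.orderOf_coe, hx', h7]
  obtain ⟨s, hs⟩ : ∃ s, g⁻¹ * v * g = s := ⟨_, rfl⟩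
  have h4 : (x' : ↥InstData.M.G) * s = s * x' := by
    rw [hx', ← hs]
    calc g⁻¹ * y * g * (g⁻¹ * v * g) = g⁻¹ * (y * v) * g := by group
      _ = g⁻¹ * (v * y) * g := by rw [hyv]
      _ = _ := by group
  have h5 : orderOf s = 2 := by
    have h6 := MulEquiv.orderOf_eq (MulAut.conj g⁻¹) v
    rw [MulAut.conj_apply, inv_inv] at h6
    rw [← hs, h6, ht]
  have hns : ∀ d : ↥InstData.M.G, d * s * d⁻¹ ≠ KDone.K.z := by
    intro d hd
    refine hnt (d * g⁻¹) ?_
    calc d * g⁻¹ * v * (d * g⁻¹)⁻¹ = d * (g⁻¹ * v * g) * d⁻¹ := by group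
      _ = KDone.K.z := by rw [hs, hd]
  rcases CpAutMSeven.Ranks.hranks _ (MFive.orderOf_pi h hp (by decide) hx7) with h8 | h8
  · exfalso
    obtain ⟨d, hd⟩ := BpMon.BSeven.conj_z hx7 h8 h5 h4
    refine hns d⁻¹ ?_
    rw [← hd]
    group
  · obtain ⟨e⟩ := CpAutMSeven.ZeroComps.heSix x' hx7 h8
    have hca := conj_a h hp (by norm_num) hx7 (by rw [h8]; norm_num) ⟨6, h8⟩ e h5 h4 hns
    obtain ⟨c0, hc0⟩ := isConj_iff.1 hca
    obtain ⟨w, hw1, hw2, hw3, hw4, hw5, hw6, hw7⟩ := he_four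
    have hF : Four (Cfsg.Agent.KFacts.He.Lv.gn .a : Cfsg.Spor.He) w := ⟨hw1, hw2, hw3, hw4, hw5, hw6, hw7⟩
    have hF' := hF.conj c0
    rw [hc0] at hF'
    have hss : s * s = 1 := by rw [← pow_two, ← h5, pow_orderOf_eq_one]
    obtain ⟨t₁, k1, k2, k3, k4, k5, k6, k7, k8⟩ := lift_four (x := (x' : ↥InstData.M.G)) (t := s)
      (by rw [Subgroup.orderOf_coe, hx7]; decide) hss h4
      (e.toMonoidHom.comp (QuotientGroup.mk' (Zx (x' : ↥InstData.M.G))))
      (e.surjective.comp (QuotientGroup.mk'_surjective _)) (fun u hu => by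
        have hu' : e (QuotientGroup.mk u) = 1 := hu
        rw [e.map_eq_one_iff] at hu'
        exact (Cfsg.Agent.LThreeMB.mk_eq_one (x := (x' : ↥InstData.M.G)) (g := (u : ↥InstData.M.G))
          (mem_centralizer_singleton_iff.1 u.2)).1 hu') hF'
    have hgs : g * s * g⁻¹ = v := by rw [← hs]; group
    have hgx : g * x' * g⁻¹ = y := by rw [hx']; group
    have hcj : ∀ a : ↥InstData.M.G, IsConj a (g * a * g⁻¹) := fun a => isConj_iff.2 ⟨g, rfl⟩
    refine ⟨g * t₁ * g⁻¹, ?_, ?_, fun hh => k3 (conj_eq_one_iff.1 hh), fun hh => k4 ?_, ?_, ?_, ?_, fun c hcy hcv => ?_⟩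
    · rw [← hgx]
      calc g * t₁ * g⁻¹ * (g * x' * g⁻¹) = g * (t₁ * x') * g⁻¹ := by group
        _ = g * (x' * t₁) * g⁻¹ := by rw [k1]
        _ = _ := by group
    · calc g * t₁ * g⁻¹ * (g * t₁ * g⁻¹) = g * (t₁ * t₁) * g⁻¹ := by group
        _ = 1 := by rw [k2]; group
    · rw [← hgs] at hh
      exact (MulAut.conj g).injective hh
    · rw [← hgs]
      calc g * t₁ * g⁻¹ * (g * s * g⁻¹) = g * (t₁ * s) * g⁻¹ := by group
        _ = g * (s * t₁) * g⁻¹ := by rw [k5]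
        _ = _ := by group
    · rw [← hgs]
      exact (hcj s).symm.trans (k6.trans (hcj t₁))
    · have e1 : g * t₁ * g⁻¹ * v = g * (t₁ * s) * g⁻¹ := by rw [← hgs]; group
      rw [e1, ← hgs]
      exact (hcj s).symm.trans (k7.trans (hcj _))
    · have m1 : g⁻¹ * c * g * x' = x' * (g⁻¹ * c * g) := by
        rw [hx']
        calc g⁻¹ * c * g * (g⁻¹ * y * g) = g⁻¹ * (c * y) * g := by group
          _ = g⁻¹ * (y * c) * g := by rw [hcy]
          _ = _ := by group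
      have m2 : g⁻¹ * c * g * s = s * (g⁻¹ * c * g) := by
        rw [← hs]
        calc g⁻¹ * c * g * (g⁻¹ * v * g) = g⁻¹ * (c * v) * g := by group
          _ = g⁻¹ * (v * c) * g := by rw [hcv]
          _ = _ := by group
      rcases k8 _ m1 m2 with m3 | m3
      · left
        calc c * (g * t₁ * g⁻¹) * c⁻¹ = g * (g⁻¹ * c * g * t₁ * (g⁻¹ * c * g)⁻¹) * g⁻¹ := by group
          _ = g * t₁ * g⁻¹ := by rw [m3]
      · right
        calc c * (g * t₁ * g⁻¹) * c⁻¹ = g * (g⁻¹ * c * g * t₁ * (g⁻¹ * c * g)⁻¹) * g⁻¹ := by group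
          _ = g * (t₁ * s) * g⁻¹ := by rw [m3]
          _ = g * t₁ * g⁻¹ * v := by rw [← hgs]; group

end mon

section baby

open Subgroup Cfsg Cfsg.Agent.R01.Lifts Cfsg.Agent.MonsterN Cfsg.Agent.MonsterN.Lit
open Cfsg.Agent.BabyComp Cfsg.Agent.BabyComp.Main Cfsg.Agent.BabyComp.BaseTwo
open Cfsg.Agent.H713.Spor Cfsg.Agent.MonsterX

/-- **The centralizer of an element of order 7 of the Baby Monster commutes with a transposition.** -/
theorem seven_central {s : Spor.BabyMonster} (hs : orderOf s = 7) :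
    ∃ d : Spor.BabyMonster, IsConj d (PresentedGroup.of Spor.BabyMonster.Gen.t1 : Spor.BabyMonster) ∧
      d ≠ 1 ∧ d * d = 1 ∧ ∀ c : Spor.BabyMonster, c * s = s * c → c * d = d * c := by
  have hodd : Odd (orderOf s) := by rw [hs]; decide
  obtain ⟨g0, hg0⟩ := ModelB.exists_conj_t LitFin.all.hG LitFin.all.hR KDone.lnk KDone.lft KDone.lnk.x₀_mem
  have hv : IsConj BpSpor.BCover.t (KDone.K.ι KLinkInst.x₀) := isConj_iff.2 ⟨g0, hg0⟩
  have hnt := CpAutBFive.RowB.not_conj hv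
  refine CTwoTab.BInst.elim ?_
  intro K iF iT hK hF i1 i2 i3 i4 q y' h π f₁ f₂ f₃ f₄ M₁ hq h10 DK Fc hz hcz hcd hL hc5 big hq5 hcard Bs hr
  set τ : ↥(LitInst.BB MonsterX.KDone.K MonsterX.KLinkInst.x₀) :=
    LitInst.tb MonsterX.KDone.K MonsterX.KLinkInst.x₀ with hτ
  set θ := (LitInst.BB MonsterX.KDone.K MonsterX.KLinkInst.x₀).subtype with hθ
  have hθi : Function.Injective θ := Subgroup.subtype_injective _
  have hθτ : θ τ = KDone.K.ι KLinkInst.x₀ := rfl
  obtain ⟨x, hx, hxs⟩ := H844.Ore.BThirteen.exists_lift_odd hq hodd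
  rw [hs] at hx
  have hx7 : orderOf (θ x) = 7 := by rw [orderOf_injective θ hθi, hx]
  obtain ⟨t₁, k1, k2, k3, k4, k5, k6, k7, k8⟩ := mon_four hv hx7 (by
    rw [← hθτ, ← map_mul, hq.comm, map_mul])
  rw [← hθτ] at k4 k5 k6 k7 k8 hnt
  obtain ⟨b, rfl⟩ := hr t₁ k5
  have hbb : b * b = 1 := hθi (by rw [map_mul, k2, map_one])
  have hb1 : b ≠ 1 := fun e => k3 (by rw [e, map_one])
  have hbτ : b ≠ τ := fun e => k4 (by rw [e])
  have hn : ∀ c, IsConj (θ τ) c → ¬ IsConj KDone.K.z c := by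
    intro c h1 h2
    obtain ⟨d, hd⟩ := isConj_iff.1 (h1.trans h2.symm)
    exact hnt d hd
  have hfb : IsConj f₁ b := by
    rcases Fc.classes b hbb hb1 hbτ with h1 | h1 | h1 | h1
    · exact h1
    · exfalso
      have h2 := hcz.trans (θ.map_isConj (FusionType.conj_mul_t Fc.cen h1))
      refine hn _ k7 ?_
      rw [← map_mul, ← hq.comm b] at *
      exact h2
    · exact absurd (hcz.trans (θ.map_isConj h1)) (hn _ k6)
    · exact absurd (hcd.trans (θ.map_isConj h1)) (hn _ k6)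
  refine ⟨q b, ((q.map_isConj (hc5.symm.trans hfb)).symm.trans hq5), fun hb => ?_, by rw [← map_mul, hbb, map_one],
    fun c hc => ?_⟩
  · rcases (hq.ker b).1 hb with h1 | h1
    · exact hb1 h1
    · exact hbτ h1
  · obtain ⟨c, rfl⟩ := hq.surj c
    rw [← hxs] at hc
    have hcx : c * x = x * c := H844.Ore.BInv.comm_of_odd hq (by rw [hx]; decide) hc
    have h1 := k8 (θ c) (by rw [← map_mul, hcx, map_mul]) (by rw [← map_mul, hq.comm, map_mul])
    have h2 : q (c * b * c⁻¹) = q b := by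
      rcases h1 with h1 | h1
      · rw [← map_mul, ← map_inv, ← map_mul] at h1
        rw [hθi h1]
      · rw [← map_mul, ← map_inv, ← map_mul, ← map_mul] at h1
        rw [hθi h1, map_mul, hq.mapz, mul_one]
    rw [map_mul, map_mul, map_inv] at h2
    calc q c * q b = q c * q b * (q c)⁻¹ * q c := by group
      _ = q b * q c := by rw [h2]

/-- the same for every copy of the Baby Monster -/
theorem seven_central' {L : Type*} [Group L] (e : L ≃* Spor.BabyMonster) {s : L} (hs : orderOf s = 7) :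
    ∃ d : L, IsConj (e d) (PresentedGroup.of Spor.BabyMonster.Gen.t1 : Spor.BabyMonster) ∧
      d ≠ 1 ∧ d * d = 1 ∧ ∀ c : L, c * s = s * c → c * d = d * c := by
  obtain ⟨d, h1, h2, h3, h4⟩ := seven_central (s := e s) (by rw [MulEquiv.orderOf_eq, hs])
  refine ⟨e.symm d, by rw [e.apply_symm_apply]; exact h1, fun h => h2 ?_, ?_, fun c hc => ?_⟩
  · rw [← e.apply_symm_apply d, h, map_one]
  · apply e.injective
    rw [map_mul, e.apply_symm_apply, h3, map_one]
  · apply e.injective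
    rw [map_mul, map_mul, e.apply_symm_apply]
    exact h4 _ (by rw [← map_mul, hc, map_mul])

end baby

end Cfsg.Agent.H472.RB
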