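import Cfsg.Agent.H853.RB.Rules
import Cfsg.Agent.H705.TwoB.Pair

/-!
# S3509, row B: no member of a minimal cover is of class 2B (helper472)

* `dc`, `odd_one` : `R` extraspecial with `C(w)`-structure `Large R w`, `t ∈ R`: the double centralizer of `t` in `R` is `⟨w, t⟩`,
  elements of odd order of `C(w, t)` centralising `C_R(t)` are trivial;
* `Fr t q` : `q : C(t) → L` onto, with kernel `{1, t}`, `t` of class 2A in the Monster;
* **`not_twoB`** : `w` conjugate to `z`, `w t` of class 2A: `q w` is no member of a minimal cover.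
-/

set_option autoImplicit false
set_option maxRecDepth 100000

namespace Cfsg.Agent.H472.RB

open Cfsg
open Subgroup (centralizer zpowers mem_centralizer_singleton_iff mem_zpowers_iff)
open Cfsg.Agent.Co2Type.Quad (Large)

section large

variable {M : Type*} [Group M] {R : Subgroup M} {w t : M}

theorem comm_quot (hL : Large R w) (htR : t ∈ R) {v b : M} (hv : v ∈ R) (hb : b ∈ R) (hvt : t * v ≠ v * t)
    (hbt : t * b ≠ b * t) : (v⁻¹ * b) * t = t * (v⁻¹ * b) := by
  have h1 : t * v = v * t * w := (hL.comm t htR v hv).resolve_left hvt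
  have h2 : t * b = b * t * w := (hL.comm t htR b hb).resolve_left hbt
  have hww := hL.z_sq
  have h3 : b * t = t * b * w := by
    calc b * t = b * t * (w * w) := by rw [hww, mul_one]
      _ = b * t * w * w := by group
      _ = t * b * w := by rw [h2]
  have h4 : v⁻¹ * t = t * v⁻¹ * w := by
    have h5 : v⁻¹ * (t * v) * v⁻¹ = v⁻¹ * (v * t * w) * v⁻¹ := by rw [h1]
    have h6 : w * v⁻¹ = v⁻¹ * w := (hL.comm_z v⁻¹ (R.inv_mem hv)).symm
    calc v⁻¹ * t = v⁻¹ * (t * v) * v⁻¹ := by group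
      _ = t * (w * v⁻¹) := by rw [h5]; group
      _ = t * v⁻¹ * w := by rw [h6, mul_assoc]
  calc v⁻¹ * b * t = v⁻¹ * (b * t) := by group
    _ = v⁻¹ * t * b * w := by rw [h3]; group
    _ = t * v⁻¹ * (w * b) * w := by rw [h4]; group
    _ = t * v⁻¹ * (b * w) * w := by rw [← hL.comm_z b hb]
    _ = t * (v⁻¹ * b) * (w * w) := by group
    _ = t * (v⁻¹ * b) := by rw [hww, mul_one]

theorem exists_v (hL : Large R w) (htR : t ∈ R) (ht1 : t ≠ 1) (htw : t ≠ w) : ∃ v ∈ R, t * v ≠ v * t := by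
  by_contra hcon
  push Not at hcon
  rcases hL.cent t htR hcon with h1 | h1
  · exact ht1 h1
  · exact htw h1

/-- **the double centralizer** -/
theorem dc (hL : Large R w) (htR : t ∈ R) (htt : t * t = 1) (ht1 : t ≠ 1) (htw : t ≠ w) {a : M} (ha : a ∈ R)
    (h : ∀ b ∈ R, b * t = t * b → a * b = b * a) : a = 1 ∨ a = w ∨ a = t ∨ a = w * t := by
  obtain ⟨v, hv, hvt⟩ := exists_v hL htR ht1 htw
  have hvt' : t * v = v * t * w := (hL.comm t htR v hv).resolve_left hvt
  have key : ∀ a' ∈ R, (∀ b ∈ R, b * t = t * b → a' * b = b * a') → a' * v = v * a' → a' = 1 ∨ a' = w := by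
    intro a' ha' h1 h2
    refine hL.cent a' ha' fun b hb => ?_
    by_cases hbt : b * t = t * b
    · exact h1 b hb hbt
    · have h3 := h1 (v⁻¹ * b) (R.mul_mem (R.inv_mem hv) hb) (comm_quot hL htR hv hb hvt (fun e => hbt e.symm))
      calc a' * b = a' * v * (v⁻¹ * b) := by group
        _ = v * (a' * (v⁻¹ * b)) := by rw [h2]; group
        _ = v * (v⁻¹ * b * a') := by rw [h3]
        _ = b * a' := by group
  rcases hL.comm a ha v hv with h1 | h1
  · rcases key a ha h h1 with h2 | h2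
    · exact Or.inl h2
    · exact Or.inr (Or.inl h2)
  · have h2 : (a * t) * v = v * (a * t) := by
      calc a * t * v = a * (t * v) := by group
        _ = (a * v) * (t * w) := by rw [hvt']; group
        _ = v * a * (w * t) * w := by rw [h1]; group
        _ = v * a * (t * w) * w := by rw [← hL.comm_z t htR]
        _ = v * (a * t) * (w * w) := by group
        _ = v * (a * t) := by rw [hL.z_sq, mul_one]
    have h3 : ∀ b ∈ R, b * t = t * b → (a * t) * b = b * (a * t) := by
      intro b hb hbt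
      calc a * t * b = a * (t * b) := by group
        _ = (a * b) * t := by rw [← hbt]; group
        _ = b * (a * t) := by rw [h b hb hbt]; group
    have e1 : a = (a * t) * t := by rw [mul_assoc, htt, mul_one]
    rcases key (a * t) (R.mul_mem ha htR) h3 h2 with h4 | h4
    · rw [h4, one_mul] at e1
      exact Or.inr (Or.inr (Or.inl e1))
    · rw [h4] at e1
      exact Or.inr (Or.inr (Or.inr e1))

theorem pow_four (hL : Large R w) {c : M} (hc : c ∈ R) : c ^ 4 = 1 := by
  have h1 : c ^ 4 = (c * c) * (c * c) := by simp only [pow_succ, pow_zero, one_mul, mul_assoc]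
  rcases hL.sq c hc with h2 | h2
  · rw [h1, h2, one_mul]
  · rw [h1, h2, hL.z_sq]

theorem one_of_odd {c : M} {n : ℕ} (h4 : c ^ 4 = 1) (hn : c ^ n = 1) (ho : Odd n) : c = 1 := by
  have h1 := orderOf_dvd_of_pow_eq_one h4
  have h2 := orderOf_dvd_of_pow_eq_one hn
  have h3 : Nat.Coprime 4 n := by
    rw [show 4 = 2 ^ 2 from rfl]
    exact Nat.Coprime.pow_left 2 (Nat.coprime_two_left.2 ho)
  exact orderOf_eq_one_iff.1 (Nat.Coprime.eq_one_of_dvd (Nat.Coprime.coprime_dvd_left h1 h3) h2)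

/-- **elements of odd order** -/
theorem odd_one (hL : Large R w) (htR : t ∈ R) (ht1 : t ≠ 1) (htw : t ≠ w) {y : M} (hyw : y * w = w * y)
    (hyt : y * t = t * y) (ho : Odd (orderOf y)) (h : ∀ b ∈ R, b * t = t * b → y * b = b * y) : y = 1 := by
  obtain ⟨v, hv, hvt⟩ := exists_v hL htR ht1 htw
  have hv'R : y * v * y⁻¹ ∈ R := hL.conj_mem y hyw v hv
  have hv't : t * (y * v * y⁻¹) ≠ y * v * y⁻¹ * t := by
    intro h1
    apply hvt
    have hyt' : y⁻¹ * t = t * y⁻¹ := (show Commute y t from hyt).inv_left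
    calc t * v = y⁻¹ * y * t * v := by group
      _ = y⁻¹ * (t * y) * v := by rw [mul_assoc y⁻¹, hyt]
      _ = y⁻¹ * (t * (y * v * y⁻¹)) * y := by group
      _ = y⁻¹ * (y * v * y⁻¹ * t) * y := by rw [h1]
      _ = v * (y⁻¹ * t) * y := by group
      _ = v * (t * y⁻¹) * y := by rw [hyt']
      _ = v * t := by group
  obtain ⟨c, hc⟩ : ∃ c, c = v⁻¹ * (y * v * y⁻¹) := ⟨_, rfl⟩
  have hcR : c ∈ R := hc ▸ R.mul_mem (R.inv_mem hv) hv'R
  have hct : c * t = t * c := hc ▸ comm_quot hL htR hv hv'R hvt hv't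
  have hyc : y * c = c * y := h c hcR hct
  have hyv : y * v * y⁻¹ = v * c := by rw [hc]; group
  have hpow : ∀ n : ℕ, y ^ n * v * (y ^ n)⁻¹ = v * c ^ n := by
    intro n
    induction n with
    | zero => group
    | succ n ih =>
      have hyc' : y * c ^ n * y⁻¹ = c ^ n := by
        rw [((show Commute y c from hyc).pow_right n).eq, mul_inv_cancel_right]
      calc y ^ (n + 1) * v * (y ^ (n + 1))⁻¹ = y * (y ^ n * v * (y ^ n)⁻¹) * y⁻¹ := by
            rw [pow_succ' y n]; group
        _ = y * (v * c ^ n) * y⁻¹ := by rw [ih]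
        _ = (y * v * y⁻¹) * (y * c ^ n * y⁻¹) := by group
        _ = v * c * c ^ n := by rw [hyv, hyc']
        _ = v * c ^ (n + 1) := by rw [pow_succ' c n, mul_assoc]
  have hc1 : c = 1 := by
    refine one_of_odd (pow_four hL hcR) (n := orderOf y) ?_ ho
    have h1 := hpow (orderOf y)
    rw [pow_orderOf_eq_one, one_mul, inv_one, mul_one] at h1
    exact (mul_eq_left.1 h1.symm)
  have hyv' : y * v = v * y := by
    rw [hc1, mul_one, mul_inv_eq_iff_eq_mul] at hyv
    exact hyv
  have hyR : y ∈ R := by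
    refine hL.self y hyw fun b hb => ?_
    by_cases hbt : b * t = t * b
    · exact h b hb hbt
    · have h3 := h (v⁻¹ * b) (R.mul_mem (R.inv_mem hv) hb) (comm_quot hL htR hv hb hvt (fun e => hbt e.symm))
      calc y * b = y * v * (v⁻¹ * b) := by group
        _ = v * (y * (v⁻¹ * b)) := by rw [hyv']; group
        _ = v * (v⁻¹ * b * y) := by rw [h3]
        _ = b * y := by group
  exact one_of_odd (pow_four hL hyR) (pow_orderOf_eq_one y) ho

/-- transport -/
theorem large_comap {Q : Subgroup M} {z k : M} (hL : Large Q z) (hk : k * w * k⁻¹ = z) :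
    Large (Q.comap (MulAut.conj k).toMonoidHom) w := by
  have hi := (MulAut.conj k).injective
  have hw : MulAut.conj k w = z := hk
  have hm : ∀ {a : M}, a ∈ Q.comap (MulAut.conj k).toMonoidHom ↔ MulAut.conj k a ∈ Q := Iff.rfl
  refine ⟨?_, ?_, ?_, ?_, ?_, ?_, ?_, ?_, ?_⟩
  · rw [hm, hw]; exact hL.z_mem
  · rintro rfl
    exact hL.z_ne (by rw [← hw, map_one])
  · apply hi
    rw [map_mul, hw, hL.z_sq, map_one]
  · intro x hx
    apply hi
    rw [map_mul, map_mul, hw]
    exact hL.comm_z _ (hm.1 hx)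
  · intro g hg x hx
    rw [hm, map_mul, map_mul, map_inv]
    exact hL.conj_mem _ (by rw [← hw, ← map_mul, hg, map_mul]) _ (hm.1 hx)
  · intro x hx
    rcases hL.sq _ (hm.1 hx) with h | h
    · left; apply hi; rw [map_mul, h, map_one]
    · right; apply hi; rw [map_mul, h, hw]
  · intro x hx y hy
    rcases hL.comm _ (hm.1 hx) _ (hm.1 hy) with h | h
    · left; apply hi; rw [map_mul, map_mul, h]
    · right; apply hi; rw [map_mul, map_mul, map_mul, h, hw]
  · intro x hx h
    rcases hL.cent _ (hm.1 hx) (fun y hy => by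
      obtain ⟨y, rfl⟩ := (MulAut.conj k).surjective y
      rw [← map_mul, ← map_mul, h y (hm.2 hy)]) with h1 | h1
    · left; apply hi; rw [h1, map_one]
    · right; apply hi; rw [h1, hw]
  · intro g hg h
    rw [hm]
    refine hL.self _ (by rw [← hw, ← map_mul, hg, map_mul]) fun y hy => ?_
    obtain ⟨y, rfl⟩ := (MulAut.conj k).surjective y
    rw [← map_mul, ← map_mul, h y (hm.2 hy)]

end large

section frame

open Cfsg.Agent.MonsterX Cfsg.Agent.MonsterX.InstData Cfsg.Agent.MonsterX.MainPack Cfsg.Agent.MonsterU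
open Cfsg.Agent.MonsterP Cfsg.Agent.MonsterN
open Cfsg.Agent.MonsterX.KSide Cfsg.Agent.MonsterX.KLift Cfsg.Agent.MonsterN.LitInst
open Cfsg.Agent.LThreeB.Row (TA)
open MulAction Cfsg.Agent.H106.RC

/-- the Monster -/
abbrev Mn : Type := ↥InstData.M.G

/-- **the frame**: a cover `q : C(t) → L` with kernel `{1, t}`, `t` of class 2A. -/
structure Fr {L : Type*} [Group L] (t : Mn) (q : ↥(centralizer ({t} : Set Mn)) →* L) : Prop where
  ta : TA t
  surj : Function.Surjective q
  ker : ∀ c, q c = 1 ↔ (c : Mn) = 1 ∨ (c : Mn) = t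

variable {L : Type*} [Group L] {t : Mn} {q : ↥(centralizer ({t} : Set Mn)) →* L}

theorem Fr.tt (F : Fr t q) : t * t = 1 := by
  rw [← pow_two, ← MThirteen.Row.ta_order F.ta, pow_orderOf_eq_one]

theorem Fr.t1 (F : Fr t q) : t ≠ 1 := by
  intro h
  have := MThirteen.Row.ta_order F.ta
  rw [h, orderOf_one] at this
  norm_num at this

theorem Fr.not_z {a : Mn} (h : TA a) : ¬ IsConj KDone.K.z a := by
  intro h1
  obtain ⟨g, hg⟩ := isConj_iff.1 h1.symm
  exact MThirteen.Row.ta_ne h g hg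

theorem Fr.map_eq (F : Fr t q) {a b : ↥(centralizer ({t} : Set Mn))} (h : q a = q b) :
    (a : Mn) = b ∨ (a : Mn) = b * t := by
  rcases (F.ker (b⁻¹ * a)).1 (by rw [map_mul, map_inv, h, inv_mul_cancel]) with h1 | h1
  · left
    have h2 : (b : Mn)⁻¹ * a = 1 := h1
    exact (inv_mul_eq_one.1 h2).symm
  · right
    have h2 : (b : Mn)⁻¹ * a = t := h1
    exact inv_mul_eq_iff_eq_mul.1 h2

theorem Fr.comm (_F : Fr t q) (a : ↥(centralizer ({t} : Set Mn))) : (a : Mn) * t = t * a :=
  mem_centralizer_singleton_iff.1 a.2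

/-- lifts of elements of odd order -/
theorem Fr.exists_lift (F : Fr t q) {y : L} {n : ℕ} (hn : Odd n) (hy : y ^ n = 1) :
    ∃ a : ↥(centralizer ({t} : Set Mn)), q a = y ∧ (a : Mn) ^ n = 1 := by
  obtain ⟨a, rfl⟩ := F.surj y
  rw [← map_pow] at hy
  rcases (F.ker _).1 hy with h | h
  · exact ⟨a, rfl, h⟩
  · let t' : ↥(centralizer ({t} : Set Mn)) := ⟨t, mem_centralizer_singleton_iff.2 rfl⟩
    refine ⟨a * t', ?_, ?_⟩
    · rw [map_mul, (F.ker t').2 (Or.inr rfl), mul_one]
    · show ((a : Mn) * t) ^ n = 1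
      rw [(show Commute (a : Mn) t from F.comm a).mul_pow]
      have h1 : (a : Mn) ^ n = t := h
      have h2 : t ^ n = t := by
        obtain ⟨m, rfl⟩ := hn
        rw [pow_succ, pow_mul, pow_two, F.tt, one_pow, one_mul]
      rw [h1, h2, F.tt]

/-- **No member of a minimal cover is of class 2B.** -/
theorem not_twoB [Finite L] {Ω ι : Type*} [Nonempty Ω] [MulAction L Ω] [Finite ι] (hE : Env L Ω (⊤ : Subgroup L))
    {x : ι → L} {r : ι → ℕ} (hx : PF x r) (hc : Cov Ω x) (hm : CovMin Ω x) (F : Fr t q) {i₀ : ι} (h2 : r i₀ = 2)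
    (w : ↥(centralizer ({t} : Set Mn))) (hw : IsConj KDone.K.z (w : Mn)) (hwt : TA ((w : Mn) * t))
    (hwx : q w = x i₀) : False := by
  have hfin : Finite Mn := MThirteen.Row.finite
  have hch := LThreeMB.KChart.chart KDone.lft MFive.Row.hc
  -- the extraspecial group
  obtain ⟨v0, hv0⟩ := CloseLat.exists_two
  obtain ⟨u, hu, huv⟩ := hch.eta_surj v0
  obtain ⟨k, hk1, hk2⟩ := H705.TwoB.Pair.conj_pair' hw F.ta (F.comm w) hwt hu (by rw [huv]; exact hv0)
  obtain ⟨R, hR⟩ : ∃ R : Subgroup Mn, R = KDone.K.ι.range.comap (MulAut.conj k).toMonoidHom := ⟨_, rfl⟩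
  have hL : Large R (w : Mn) := hR ▸ large_comap hch.large hk1
  have htR : t ∈ R := by
    rw [hR]
    show k * t * k⁻¹ ∈ KDone.K.ι.range
    rw [hk2]
    exact hu
  have htw : t ≠ (w : Mn) := fun h => Fr.not_z F.ta (h ▸ hw)
  have hww : (w : Mn) * w = 1 := hL.z_sq
  -- members commuting with `x i₀` lift to `C(w)`
  have lift : ∀ c : ↥(centralizer ({t} : Set Mn)), q c * x i₀ = x i₀ * q c → (c : Mn) * w = w * c := by
    intro c hcx
    have h1 : q (c * w * c⁻¹) = q w := by
      rw [map_mul, map_mul, map_inv, hwx, hcx, mul_inv_cancel_right]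
    rcases F.map_eq h1 with h3 | h3
    · have h4 : (c : Mn) * w * (c : Mn)⁻¹ = w := h3
      exact mul_inv_eq_iff_eq_mul.1 h4
    · exfalso
      have h4 : (c : Mn) * w * (c : Mn)⁻¹ = w * t := h3
      refine Fr.not_z hwt (hw.trans (isConj_iff.2 ⟨c, h4⟩))
  -- the 2-group
  obtain ⟨Q, hQ⟩ : ∃ Q : Subgroup L, Q = (R.subgroupOf (centralizer ({t} : Set Mn))).map q := ⟨_, rfl⟩
  have hQm : ∀ {v : L}, v ∈ Q ↔ ∃ b : ↥(centralizer ({t} : Set Mn)), (b : Mn) ∈ R ∧ q b = v := by
    intro v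
    rw [hQ]
    exact Iff.rfl
  have hQ2 : IsPGroup 2 Q := by
    rintro ⟨v, hv⟩
    obtain ⟨b, hb, rfl⟩ := hQm.1 hv
    refine ⟨2, Subtype.ext ?_⟩
    show q b ^ (2 ^ 2) = 1
    rw [← map_pow]
    have h1 : b ^ (2 ^ 2) = 1 := Subtype.ext (pow_four hL hb)
    rw [h1, map_one]
  have hn : ∀ i, x i ∈ Subgroup.normalizer (Q : Set L) := by
    intro i
    have h1 : ∀ g : L, g * x i₀ = x i₀ * g → ∀ v ∈ Q, g * v * g⁻¹ ∈ Q := by
      intro g hg v hv
      obtain ⟨c, rfl⟩ := F.surj g
      obtain ⟨b, hb, rfl⟩ := hQm.1 hv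
      refine hQm.2 ⟨c * b * c⁻¹, ?_, by rw [map_mul, map_mul, map_inv]⟩
      exact hL.conj_mem c (lift c hg) b hb
    have hcm : x i * x i₀ = x i₀ * x i := hx.comm i i₀
    rw [Subgroup.mem_normalizer_iff]
    intro v
    refine ⟨h1 _ hcm v, fun hv => ?_⟩
    have h3 := h1 (x i)⁻¹ (show Commute (x i) (x i₀) from hcm).inv_left _ hv
    have e : (x i)⁻¹ * (x i * v * (x i)⁻¹) * (x i)⁻¹⁻¹ = v := by group
    rwa [e] at h3
  have hall := H853.RB.ruleA_min hx hc hm Nat.prime_two Q hQ2 hn h2 (fun v hv => by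
      obtain ⟨b, hb, rfl⟩ := hQm.1 hv
      rw [← hwx, ← map_mul, ← map_mul]
      congr 1
      exact Subtype.ext (hL.comm_z b hb)) (fun c hc1 hc2 _ hc4 => by
      obtain ⟨a, ha, rfl⟩ := hQm.1 hc1
      have h3 : ∀ b ∈ R, b * t = t * b → (a : Mn) * b = b * a := by
        intro b hb hbt
        have h4 := hc2 (q ⟨b, mem_centralizer_singleton_iff.2 hbt⟩) (hQm.2 ⟨_, hb, rfl⟩)
        rw [← map_mul, ← map_mul] at h4
        rcases hL.comm _ ha b hb with h5 | h5
        · exact h5
        · rcases F.map_eq h4 with h6 | h6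
          · exact h6.symm
          · exfalso
            have h7 : b * (a : Mn) = a * b * t := h6
            rw [h5] at h7
            apply htw
            have h8 : (w : Mn) * t = 1 := by
              have h9 : b * (a : Mn) * (w * t) = b * a := by
                rw [← mul_assoc]
                exact h7.symm
              exact mul_eq_left.1 h9
            exact (mul_eq_one_iff_inv_eq.1 h8).symm.trans (inv_eq_of_mul_eq_one_right hww)
      rcases dc hL htR F.tt F.t1 htw ha h3 with h5 | h5 | h5 | h5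
      · exact absurd ((F.ker a).2 (Or.inl h5)) hc4
      · have : a = w := Subtype.ext h5
        rw [this, hwx]
        exact Subgroup.mem_zpowers _
      · exact absurd ((F.ker a).2 (Or.inr h5)) hc4
      · let t' : ↥(centralizer ({t} : Set Mn)) := ⟨t, mem_centralizer_singleton_iff.2 rfl⟩
        have : a = w * t' := Subtype.ext h5
        rw [this, map_mul, (F.ker t').2 (Or.inr rfl), mul_one, hwx]
        exact Subgroup.mem_zpowers _)
  -- a second member
  obtain ⟨j, hj⟩ := Cov.two hE hc hx.ne i₀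
  have hrj : r j ≠ 2 := fun h => hj (hx.inj (h.trans h2.symm))
  have hodd : Odd (r j) := (hx.prime j).odd_of_ne_two hrj
  obtain ⟨y, hy, hyn⟩ := F.exists_lift hodd (hx.pow j)
  apply hx.ne j
  have hyo : Odd (orderOf (y : Mn)) := hodd.of_dvd_nat (orderOf_dvd_of_pow_eq_one hyn)
  have h1 : (y : Mn) = 1 := by
    refine odd_one hL htR F.t1 htw (lift y (by rw [hy]; exact hx.comm j i₀)) (F.comm y) hyo fun b hb hbt => ?_
    obtain ⟨b', hb'⟩ : ∃ b' : ↥(centralizer ({t} : Set Mn)), (b' : Mn) = b :=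
      ⟨⟨b, mem_centralizer_singleton_iff.2 hbt⟩, rfl⟩
    have h3 := hall j (q b') (hQm.2 ⟨b', hb'.symm ▸ hb, rfl⟩)
    rw [← hy] at h3
    have h4 : q (y * b' * y⁻¹) = q b' := by rw [map_mul, map_mul, map_inv, ← h3, mul_inv_cancel_right]
    rcases F.map_eq h4 with h5 | h5
    · have h6 : (y : Mn) * b' * (y : Mn)⁻¹ = b' := h5
      rw [← hb']
      exact mul_inv_eq_iff_eq_mul.1 h6
    · exfalso
      have h6 : (y : Mn) * b' * (y : Mn)⁻¹ = b' * t := h5
      have h7 : ∀ n : ℕ, (y : Mn) ^ n * b' * ((y : Mn) ^ n)⁻¹ = b' * t ^ n := by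
        intro n
        induction n with
        | zero => group
        | succ n ih =>
          have hyt' : (y : Mn) * t ^ n * (y : Mn)⁻¹ = t ^ n := by
            rw [((show Commute (y : Mn) t from F.comm y).pow_right n).eq, mul_inv_cancel_right]
          calc (y : Mn) ^ (n + 1) * b' * ((y : Mn) ^ (n + 1))⁻¹ = y * ((y : Mn) ^ n * b' * ((y : Mn) ^ n)⁻¹) * (y : Mn)⁻¹ := by
                rw [pow_succ' (y : Mn) n]; group
            _ = y * (b' * t ^ n) * (y : Mn)⁻¹ := by rw [ih]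
            _ = (y * b' * (y : Mn)⁻¹) * (y * t ^ n * (y : Mn)⁻¹) := by group
            _ = b' * t * t ^ n := by rw [h6, hyt']
            _ = b' * t ^ (n + 1) := by rw [pow_succ' t n, mul_assoc]
      have h8 := h7 (orderOf (y : Mn))
      rw [pow_orderOf_eq_one, one_mul, inv_one, mul_one] at h8
      have h9 : t ^ orderOf (y : Mn) = 1 := mul_eq_left.1 h8.symm
      obtain ⟨m, hm'⟩ := hyo
      rw [hm', pow_succ, pow_mul, pow_two, F.tt, one_pow, one_mul] at h9
      exact F.t1 h9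
  rw [← hy, (F.ker y).2 (Or.inl h1)]

end frame

end Cfsg.Agent.H472.RB
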